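import Groth.Agent.Pi1Ext.RegPurity
import Groth.Agent.RegLoc6.Serre
import Mathlib.RingTheory.Polynomial.ScaleRoots
import Mathlib.RingTheory.Etale.Locus

/-!
Purity of the branch locus for finite normal algebras over a regular local ring.
-/

set_option autoImplicit false

universe u

open IsLocalRing TensorProduct

namespace Groth.Agent.WildPurity

open Pi1Ext Pi1Ext.RegPurity

/-- A finite normal domain, étale off the closed point of a regular local ring of dimension at least
two, is étale. -/
theorem etale_of_etOff {A : Type u} [CommRing A] [IsRegularLocalRing A] {C : Type u} [CommRing C]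
    [IsDomain C] [IsIntegrallyClosed C] [Algebra A C] [Module.Finite A C] [FaithfulSMul A C]
    (hA : (2 : WithBot ℕ∞) ≤ ringKrullDim A) (hC : EtOff A C) : Algebra.Etale A C := by
  haveI := RegLoc6.isDomain_of_isRegularLocalRing A
  obtain ⟨B, _, _, f, hfin, het, hiso⟩ := exists_finite_etale_of_etOff A hA C hC
  obtain ⟨g, hg, hg0⟩ : ∃ g ∈ maximalIdeal A, g ≠ 0 := by
    refine (Submodule.ne_bot_iff _).mp fun e => ?_
    have hf : IsField A := IsLocalRing.isField_iff_maximalIdeal_eq.mpr e
    rw [ringKrullDim_eq_zero_of_isField hf] at hA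
    exact absurd hA (by decide)
  have hgC : algebraMap A C g ≠ 0 := by
    rw [Ne, FaithfulSMul.algebraMap_eq_zero_iff]; exact hg0
  let L := FractionRing C
  have hgL : IsUnit (algebraMap A L g) := by
    rw [isUnit_iff_ne_zero, IsScalarTower.algebraMap_apply A C L, Ne, IsFractionRing.to_map_eq_zero_iff]
    exact hgC
  obtain ⟨ψ, hψ⟩ := (hiso g hg).exists_extend (IsScalarTower.toAlgHom A C L) hgL
  haveI := hfin
  have hrange : ∀ b, ψ b ∈ Set.range (algebraMap C L) := fun b =>
    IsIntegrallyClosed.isIntegral_iff.mp
      (((Algebra.IsIntegral.isIntegral (R := A) b).map ψ).tower_top)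
  have hinj : Function.Injective f := by
    intro c c' e
    obtain ⟨n, hn⟩ := (hiso g hg).2 (c - c') (by rw [map_sub, e, sub_self])
    rw [Algebra.smul_def, map_pow, mul_eq_zero, sub_eq_zero] at hn
    exact hn.resolve_left (pow_ne_zero n hgC)
  have hsurj : Function.Surjective f := by
    intro b
    obtain ⟨n, c, hc⟩ := (hiso g hg).1 b
    obtain ⟨s, hs⟩ := hrange b
    have h1 : g ^ n • s = c := by
      refine IsFractionRing.injective C L ?_
      calc algebraMap C L (g ^ n • s) = g ^ n • algebraMap C L s :=
          map_smul (IsScalarTower.toAlgHom A C L) _ _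
        _ = ψ (g ^ n • b) := by rw [hs, map_smul]
        _ = algebraMap C L c := by rw [hc, hψ]; rfl
    have hreg : IsSMulRegular B (algebraMap A B (g ^ n)) :=
      IsSMulRegular.of_flat ((IsRegular.of_ne_zero (pow_ne_zero n hg0)).left.isSMulRegular)
    exact ⟨s, hreg (show algebraMap A B (g ^ n) • f s = algebraMap A B (g ^ n) • b by
      rw [algebraMap_smul, algebraMap_smul, ← map_smul, h1, hc])⟩
  exact Algebra.Etale.of_equiv (AlgEquiv.ofBijective f ⟨hinj, hsurj⟩).symm

/-- Purity of the branch locus for finite normal algebras over a regular local ring. -/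
theorem etale_of_etale_codim_one {A : Type u} [CommRing A] [IsRegularLocalRing A] {B : Type u} [CommRing B]
    [IsDomain B] [IsIntegrallyClosed B] [Algebra A B] [Module.Finite A B] [FaithfulSMul A B]
    (h1 : ∀ q : PrimeSpectrum B, (PrimeSpectrum.comap (algebraMap A B) q).asIdeal.height ≤ 1 →
      Algebra.IsEtaleAt A q.asIdeal) : Algebra.Etale A B := by
  haveI := RegLoc6.isDomain_of_isRegularLocalRing A
  haveI : Algebra.FinitePresentation A B := Algebra.FinitePresentation.of_finiteType.mp inferInstance
  rw [← Algebra.etaleLocus_eq_univ_iff_etale, Set.eq_univ_iff_forall]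
  suffices ∀ p : PrimeSpectrum A, ∀ q : PrimeSpectrum B,
      PrimeSpectrum.comap (algebraMap A B) q = p → Algebra.IsEtaleAt A q.asIdeal from fun q => this _ q rfl
  intro p
  induction p using WellFounded.induction
    (InvImage.wf (fun p : PrimeSpectrum A => p.asIdeal.height) wellFounded_lt) with
  | h p ih =>
    intro q hq
    by_cases hp : p.asIdeal.height ≤ 1
    · exact h1 q (by rwa [hq])
    let A' := Localization.AtPrime p.asIdeal
    haveI : IsRegularLocalRing A' := RegLoc6.isRegularLocalRing_localization A p.asIdeal
    haveI : IsDomain A' := IsLocalization.isDomain_localization p.asIdeal.primeCompl_le_nonZeroDivisors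
    let B' := A' ⊗[A] B
    letI : Algebra B B' := Algebra.TensorProduct.rightAlgebra
    haveI : IsLocalization (Algebra.algebraMapSubmonoid B p.asIdeal.primeCompl) B' :=
      IsLocalization.tensorRight (R := A) (S := B) (A := A') p.asIdeal.primeCompl
    haveI : IsScalarTower A B B' := IsScalarTower.of_algebraMap_eq fun x => by
      show algebraMap A B' x = (1 : A') ⊗ₜ[A] algebraMap A B x
      rw [Algebra.algebraMap_eq_smul_one (A := B), TensorProduct.tmul_smul, ← Algebra.TensorProduct.one_def,
        Algebra.algebraMap_eq_smul_one]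
    have hM : Algebra.algebraMapSubmonoid B p.asIdeal.primeCompl ≤ nonZeroDivisors B :=
      algebraMapSubmonoid_le_nonZeroDivisors_of_faithfulSMul _ p.asIdeal.primeCompl_le_nonZeroDivisors
    haveI : IsDomain B' := IsLocalization.isDomain_of_le_nonZeroDivisors _ hM
    haveI : IsIntegrallyClosed B' := isIntegrallyClosed_of_isLocalization B' _ hM
    haveI : FaithfulSMul A' B' := by
      refine (faithfulSMul_iff_algebraMap_injective A' B').mpr ?_
      rw [RingHom.injective_iff_ker_eq_bot, eq_bot_iff]
      intro z hz
      obtain ⟨a, s, rfl⟩ := IsLocalization.exists_mk'_eq p.asIdeal.primeCompl z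
      have h2 : algebraMap A B' a = 0 := by
        rw [IsScalarTower.algebraMap_apply A A' B', ← IsLocalization.mk'_spec A' a s, map_mul,
          show algebraMap A' B' (IsLocalization.mk' A' a s) = 0 from hz, zero_mul]
      rw [IsScalarTower.algebraMap_apply A B B'] at h2
      have h3 := IsLocalization.injective B' hM (h2.trans (map_zero _).symm)
      rw [FaithfulSMul.algebraMap_eq_zero_iff] at h3
      simp [h3]
    haveI : Algebra.Etale A' B' := by
      refine etale_of_etOff ?_ fun g hg => ?_
      · rw [IsLocalization.AtPrime.ringKrullDim_eq_height p.asIdeal A']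
        have h2 := Order.add_one_le_of_lt (not_le.mp hp)
        rw [one_add_one_eq_two] at h2
        exact WithBot.coe_le_coe.mpr h2
      · refine Algebra.basicOpen_subset_etaleLocus_iff_etale.mp fun q' hq' => ?_
        show Algebra.IsEtaleAt A' q'.asIdeal
        rw [formallyEtale_atPrime_comp (A := A) (B := B) p.asIdeal.primeCompl]
        have hcomap : (q'.asIdeal.comap (algebraMap B B')).comap (algebraMap A B) =
            (q'.asIdeal.comap (algebraMap A' B')).comap (algebraMap A A') := by
          rw [Ideal.comap_comap, Ideal.comap_comap, ← IsScalarTower.algebraMap_eq,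
            ← IsScalarTower.algebraMap_eq]
        refine ih ⟨(q'.asIdeal.comap (algebraMap A' B')).comap (algebraMap A A'), inferInstance⟩ ?_
          ⟨q'.asIdeal.comap (algebraMap B B'), inferInstance⟩ (PrimeSpectrum.ext hcomap)
        refine Ideal.height_strict_mono_of_isPrime (I := (q'.asIdeal.comap (algebraMap A' B')).comap (algebraMap A A')) ?_
        have hle := IsLocalRing.le_maximalIdeal (Ideal.IsPrime.ne_top'
          (I := q'.asIdeal.comap (algebraMap A' B')))
        refine lt_of_le_of_ne ((Ideal.comap_mono hle).trans_eq
          (Localization.AtPrime.under_maximalIdeal (I := p.asIdeal))) fun e => hq' ?_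
        show algebraMap A' B' g ∈ q'.asIdeal
        suffices g ∈ q'.asIdeal.comap (algebraMap A' B') from this
        rw [← IsLocalization.map_comap p.asIdeal.primeCompl A' (q'.asIdeal.comap (algebraMap A' B')),
          show Ideal.under A (q'.asIdeal.comap (algebraMap A' B')) = p.asIdeal from e,
          Localization.AtPrime.map_eq_maximalIdeal]
        exact hg
    have hdisj : Disjoint (↑(Algebra.algebraMapSubmonoid B p.asIdeal.primeCompl) : Set B) (q.asIdeal : Set B) := by
      rw [Set.disjoint_left]
      rintro _ ⟨a, ha, rfl⟩ hm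
      exact ha (by rw [← hq]; exact hm)
    haveI := IsLocalization.isPrime_of_isPrime_disjoint _ B' q.asIdeal q.2 hdisj
    have h := (formallyEtale_atPrime_comp (A := A) (B := B) (A' := A') p.asIdeal.primeCompl
      (q.asIdeal.map (algebraMap B B'))).mp (by
        have := (Algebra.etaleLocus_eq_univ_iff_etale (R := A') (A := B')).mpr inferInstance
        exact Set.eq_univ_iff_forall.mp this ⟨q.asIdeal.map (algebraMap B B'), inferInstance⟩)
    have e := IsLocalization.comap_map_of_isPrime_disjoint _ B' q.2 hdisj
    simp only [e] at h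
    exact h

end Groth.Agent.WildPurity
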