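import Groth.Agent.WildPurity.Galois
import Groth.Agent.WildPurity.Purity
import Groth.Agent.WQ7.Galois
import Groth.Agent.WQ7.Invariants
import Mathlib.RingTheory.Ideal.GoingUp

/-!
Generation of the group by the inertia subgroups of height-one primes over a regular local ring.
-/

set_option autoImplicit false

universe u w

open IsLocalRing TensorProduct
open scoped Pointwise

namespace Groth.Agent.WildPurity

section

variable {A : Type u} [CommRing A] {H : Type w} [Group H] [MulSemiringAction H A]

/-- The subgroup generated by the inertia subgroups of height-one primes is normal. -/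
theorem normal_iSup_inertia :
    (⨆ P : {P : Ideal A // P.IsPrime ∧ P.height = 1}, P.1.inertia H).Normal := by
  refine ⟨fun n hn h => ?_⟩
  refine Subgroup.iSup_induction (C := fun m => h * m * h⁻¹ ∈ ⨆ P : {P : Ideal A // P.IsPrime ∧ P.height = 1}, P.1.inertia H)
    _ hn (fun P m hm => ?_) (by simp) (fun a b ha hb => ?_)
  · haveI := P.2.1
    refine Subgroup.mem_iSup_of_mem (⟨h • P.1, P.2.1.smul h, ?_⟩ : {P : Ideal A // P.IsPrime ∧ P.height = 1}) fun a => ?_
    · exact (RingEquiv.height_map (MulSemiringAction.toRingEquiv H A h) P.1).trans P.2.2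
    · show (h * m * h⁻¹) • a - a ∈ h • P.1
      rw [Ideal.mem_pointwise_smul_iff_inv_smul_mem, smul_sub, ← mul_smul,
        show h⁻¹ * (h * m * h⁻¹) = m * h⁻¹ by group, mul_smul]
      exact hm (h⁻¹ • a)
  · have := mul_mem ha hb
    simpa [mul_assoc] using this

variable {R : Type u} [CommRing R] [Algebra R A] [SMulCommClass H R A]

instance (N : Subgroup H) : SMulCommClass N R A := ⟨fun n r a => smul_comm (n : H) r a⟩

/-- The action of the quotient on the invariants. -/
@[reducible] noncomputable def quotAction (N : Subgroup H) [N.Normal] :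
    MulSemiringAction (H ⧸ N) (FixedPoints.subalgebra R A N) where
  smul q b := Quotient.liftOn' q (fun h => (⟨h • (b : A), fun n => by
      show (n : H) • (h • (b : A)) = h • (b : A)
      have hb : ((h⁻¹ * n * h : H)) • (b : A) = b := b.2 ⟨_, by simpa using (‹N.Normal›.conj_mem n n.2 h⁻¹)⟩
      conv_rhs => rw [← hb]
      simp [← mul_smul, mul_assoc]⟩ : FixedPoints.subalgebra R A N)) fun h h' e => by
    rw [QuotientGroup.leftRel_apply] at e
    refine Subtype.ext ?_
    show h • (b : A) = h' • (b : A)
    have hb : (h⁻¹ * h') • (b : A) = b := b.2 ⟨_, e⟩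
    conv_lhs => rw [← hb]
    simp [← mul_smul]
  one_smul b := Subtype.ext (one_smul H (b : A))
  mul_smul q q' b := Quotient.inductionOn₂' q q' fun h h' => Subtype.ext (mul_smul h h' (b : A))
  smul_zero q := Quotient.inductionOn' q fun h => Subtype.ext (smul_zero h)
  smul_add q a b := Quotient.inductionOn' q fun h => Subtype.ext (smul_add h (a : A) (b : A))
  smul_one q := Quotient.inductionOn' q fun h => Subtype.ext (smul_one h)
  smul_mul q a b := Quotient.inductionOn' q fun h => Subtype.ext (smul_mul' h (a : A) (b : A))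

end

theorem height_le_height_comap {R : Type*} [CommRing R] {A : Type*} [CommRing A] [Algebra R A]
    [Algebra.IsIntegral R A] (P : Ideal A) [P.IsPrime] : P.height ≤ (P.comap (algebraMap R A)).height := by
  rw [show P.height = Order.height (⟨P, ‹_›⟩ : PrimeSpectrum A) from PrimeSpectrum.height_eq_orderHeight ⟨P, ‹_›⟩,
    show (P.comap (algebraMap R A)).height = Order.height (PrimeSpectrum.comap (algebraMap R A) ⟨P, ‹_›⟩) from
      PrimeSpectrum.height_eq_orderHeight (PrimeSpectrum.comap (algebraMap R A) ⟨P, ‹_›⟩)]
  refine Order.height_le_height_apply_of_strictMono _ (fun I J hIJ => ?_) _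
  obtain ⟨x, hxJ, hxI⟩ := SetLike.exists_of_lt (show I.asIdeal < J.asIdeal from hIJ)
  exact Ideal.comap_lt_comap_of_integral_mem_sdiff hIJ.le ⟨hxJ, hxI⟩ (Algebra.IsIntegral.isIntegral x)

/-- The inertia subgroups of height-one primes generate. -/
theorem iSup_inertia_eq_top {R : Type u} [CommRing R] [IsRegularLocalRing R] {A : Type u} [CommRing A]
    [IsDomain A] [IsIntegrallyClosed A] [IsLocalRing A] [Algebra R A] [Module.Finite R A] [FaithfulSMul R A]
    (hres : Function.Surjective (residue A ∘ algebraMap R A))
    {H : Type w} [Group H] [Finite H] [MulSemiringAction H A] [SMulCommClass H R A] [FaithfulSMul H A]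
    (hfix : ∀ a : A, (∀ h : H, h • a = a) → a ∈ Set.range (algebraMap R A)) :
    (⨆ P : {P : Ideal A // P.IsPrime ∧ P.height = 1}, P.1.inertia H) = ⊤ := by
  classical
  set N := ⨆ P : {P : Ideal A // P.IsPrime ∧ P.height = 1}, P.1.inertia H with hN
  haveI : N.Normal := normal_iSup_inertia
  haveI := RegLoc6.isDomain_of_isRegularLocalRing R
  let B := FixedPoints.subalgebra R A N
  letI : MulSemiringAction (H ⧸ N) B := quotAction N
  haveI : SMulCommClass (H ⧸ N) R B :=
    ⟨fun q r b => Quotient.inductionOn' q fun h => Subtype.ext (smul_comm h r (b : A))⟩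
  haveI : Algebra.IsIntegral R A := Algebra.IsIntegral.of_finite R A
  haveI : Module.Finite R B := Module.Finite.of_injective B.val.toLinearMap Subtype.val_injective
  haveI : IsIntegrallyClosed B := by
    haveI : IsIntegrallyClosed (FixedPoints.subring A N) := WQ7.isIntegrallyClosed_fixed
    let e : FixedPoints.subring A N ≃+* B :=
      { toFun := fun x => ⟨x.1, x.2⟩, invFun := fun x => ⟨x.1, x.2⟩, left_inv := fun _ => rfl,
        right_inv := fun _ => rfl, map_mul' := fun _ _ => rfl, map_add' := fun _ _ => rfl }
    exact IsIntegrallyClosed.of_equiv e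
  haveI : FaithfulSMul R B := (faithfulSMul_iff_algebraMap_injective R B).mpr fun a b e =>
    FaithfulSMul.algebraMap_injective R A (congrArg Subtype.val e)
  haveI : Algebra.IsIntegral B A := Algebra.IsIntegral.tower_top (R := R)
  haveI : IsLocalRing B := by
    haveI : IsLocalHom (algebraMap B A) := Algebra.IsIntegral.isLocalHom B A
    exact RingHom.domain_isLocalRing (algebraMap B A)
  have hinv : ∀ b : B, (∀ q : H ⧸ N, q • b = b) → b ∈ Set.range (algebraMap R B) := fun b hb => by
    obtain ⟨r, hr⟩ := hfix b fun h => congrArg Subtype.val (hb (QuotientGroup.mk h))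
    exact ⟨r, Subtype.ext hr⟩
  haveI : Algebra.IsInvariant R A H := ⟨hfix⟩
  have hinertia : ∀ P' : Ideal B, P'.IsPrime → (P'.comap (algebraMap R B)).height ≤ 1 →
      P'.inertia (H ⧸ N) = ⊥ := by
    intro P' hP' hle
    obtain ⟨P, -, hP, hPP'⟩ := Ideal.exists_ideal_over_prime_of_isIntegral P' (⊥ : Ideal A) (by
      rw [← RingHom.ker_eq_comap_bot, (RingHom.injective_iff_ker_eq_bot _).mp Subtype.val_injective]
      exact bot_le)
    rw [Subgroup.eq_bot_iff_forall]
    intro q
    refine Quotient.inductionOn' q fun h hh => ?_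
    have hmem : h ∈ P.inertia H ⊔ N := WQ7.mem_inertia_sup N P h fun x hx => by
      have := hh (⟨x, fun n => hx n n.2⟩ : B)
      rw [← hPP'] at this
      exact this
    have hPI : P.inertia H ≤ N := by
      have hP1 : P.height ≤ 1 := by
        have h2 : ¬ 2 ≤ (P.comap (algebraMap R A)).height := by
          rw [IsScalarTower.algebraMap_eq R B A, ← Ideal.comap_comap, hPP']
          intro h2
          exact absurd (h2.trans hle) (by decide)
        by_contra hP1
        refine h2 ?_
        have h3 : (2 : ℕ∞) ≤ P.height := by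
          have := Order.add_one_le_of_lt (not_le.mp hP1)
          rwa [one_add_one_eq_two] at this
        exact h3.trans (height_le_height_comap (R := R) P)
      rcases eq_or_lt_of_le hP1 with h1 | h0
      · exact le_iSup (fun P : {P : Ideal A // P.IsPrime ∧ P.height = 1} => P.1.inertia H) ⟨P, hP, h1⟩
      · have hbot : P = ⊥ := Ideal.height_eq_zero_iff_eq_bot.mp (ENat.lt_one_iff_eq_zero.mp h0)
        intro g hg
        have : g = 1 := FaithfulSMul.eq_of_smul_eq_smul (α := A) fun a => by
          have := hg a
          rw [hbot, Submodule.mem_toAddSubgroup, Ideal.mem_bot, sub_eq_zero] at this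
          rw [this, one_smul]
        exact this ▸ N.one_mem
    exact (QuotientGroup.eq_one_iff h).mpr (sup_le hPI le_rfl hmem)
  haveI : Algebra.Etale R B := etale_of_etale_codim_one fun P' hle =>
    isEtaleAt_of_inertia hinv (P'.asIdeal.comap (algebraMap R B))
      (fun Q hQ e => hinertia Q hQ (e ▸ hle)) P'.asIdeal rfl
  have hsurj : Function.Surjective (algebraMap R B) := by
    have hle : (⊤ : Submodule R B) ≤ LinearMap.range (Algebra.linearMap R B) ⊔ maximalIdeal R • (⊤ : Submodule R B) := by
      intro b _
      obtain ⟨r, hr⟩ := hres (residue A (b : A))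
      have hmax : b - algebraMap R B r ∈ maximalIdeal B := by
        rw [mem_maximalIdeal, mem_nonunits_iff]
        intro hu
        have := hu.map (algebraMap B A)
        exact (mem_maximalIdeal _).mp (Ideal.Quotient.eq.mp hr.symm) this
      haveI : IsLocalHom (algebraMap R B) := Algebra.IsIntegral.isLocalHom R B
      rw [← Algebra.FormallyUnramified.map_maximalIdeal (R := R) (S := B)] at hmax
      refine Submodule.mem_sup.mpr ⟨_, ⟨r, rfl⟩, b - algebraMap R B r, ?_, by simp⟩
      rwa [Ideal.smul_top_eq_map]
    intro b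
    exact Submodule.le_of_le_smul_of_le_jacobson_bot Module.Finite.fg_top
      (IsLocalRing.maximalIdeal_le_jacobson _) hle (Submodule.mem_top (x := b))
  rw [eq_top_iff]
  intro h _
  have hmem : h ∈ (⊥ : Ideal A).inertia H ⊔ N := WQ7.mem_inertia_sup N ⊥ h fun x hx => by
    obtain ⟨r, hr⟩ := hsurj ⟨x, fun n => hx n n.2⟩
    rw [← show algebraMap R A r = x from congrArg Subtype.val hr, smul_algebraMap, sub_self]
    exact zero_mem _
  have h0 : (⊥ : Ideal A).inertia H ≤ N := fun g hg => by
    have : g = 1 := FaithfulSMul.eq_of_smul_eq_smul (α := A) fun a => by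
      have := hg a
      rw [Submodule.mem_toAddSubgroup, Ideal.mem_bot, sub_eq_zero] at this
      rw [this, one_smul]
    exact this ▸ N.one_mem
  exact sup_le h0 le_rfl hmem

end Groth.Agent.WildPurity
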