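import Mathlib

/-!
Morphisms of finite flat schemes which are isomorphisms on the fibres over points of codimension at most one.
-/

set_option autoImplicit false
set_option backward.isDefEq.respectTransparency.types false

universe u

open CategoryTheory CategoryTheory.Limits AlgebraicGeometry TopologicalSpace TensorProduct

namespace Groth.Agent.WildPurity

section Algebra

theorem bijective_of_codim_one_local {A : Type u} [CommRing A] [IsNoetherianRing A] [IsLocalRing A]
    {M N : Type u} [AddCommGroup M] [AddCommGroup N] [Module A M] [Module A N]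
    [Module.Finite A M] [Module.Free A M] [Module.Finite A N] [Module.Free A N] (φ : M →ₗ[A] N)
    (h : ∀ p : Ideal A, p.IsPrime → p.height ≤ 1 → ∃ (K : Type u) (_ : Field K) (_ : Algebra A K),
      RingHom.ker (algebraMap A K) = p ∧ Function.Bijective (φ.baseChange K)) :
    Function.Bijective φ := by
  obtain ⟨p0, hp0⟩ : (⊥ : Ideal A).minimalPrimes.Nonempty := Set.nonempty_coe_sort.mp (Ideal.nonempty_minimalPrimes bot_ne_top)
  obtain ⟨K, _, _, hker, hb⟩ := h p0 hp0.1.1 (le_trans (le_of_eq
    (haveI := hp0.1.1; Ideal.height_eq_zero_iff.mpr hp0)) zero_le)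
  have hrk : Module.finrank A N = Module.finrank A M := by
    have := (LinearEquiv.ofBijective _ hb).finrank_eq
    rw [Module.finrank_baseChange, Module.finrank_baseChange] at this
    exact this.symm
  obtain ⟨e⟩ : Nonempty (N ≃ₗ[A] M) := FiniteDimensional.nonempty_linearEquiv_of_finrank_eq hrk
  let ψ : M →ₗ[A] M := e.toLinearMap ∘ₗ φ
  have hu : IsUnit (LinearMap.det ψ) := by
    by_contra hnu
    obtain ⟨p, hp⟩ := Ideal.nonempty_minimalPrimes
      (show Ideal.span {LinearMap.det ψ} ≠ ⊤ by rwa [Ne, Ideal.span_singleton_eq_top])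
    haveI := hp.1.1
    have hh : p.height ≤ 1 := Ideal.height_le_one_of_isPrincipal_of_mem_minimalPrimes (Ideal.span {LinearMap.det ψ}) p hp
    obtain ⟨K, _, _, hker, hb⟩ := h p inferInstance hh
    have hψ : Function.Bijective (ψ.baseChange K) := by
      rw [LinearMap.baseChange_comp]
      exact ((e.baseChange A K N M).bijective).comp hb
    have hd := LinearEquiv.isUnit_det' (LinearEquiv.ofBijective _ hψ)
    rw [show ((LinearEquiv.ofBijective _ hψ : K ⊗[A] M ≃ₗ[K] K ⊗[A] M) : K ⊗[A] M →ₗ[K] K ⊗[A] M) =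
      ψ.baseChange K from rfl, LinearMap.det_baseChange] at hd
    exact hd.ne_zero (RingHom.mem_ker.mp (hker ▸ hp.1.2 (Ideal.mem_span_singleton_self _)))
  have hψ : Function.Bijective ψ :=
    (Module.End.isUnit_iff _).mp ((LinearMap.isUnit_iff_isUnit_det ψ).mpr hu)
  exact (Function.Bijective.of_comp_iff' e.bijective φ).mp hψ

theorem bijective_of_codim_one {A : Type u} [CommRing A] [IsNoetherianRing A]
    {M N : Type u} [AddCommGroup M] [AddCommGroup N] [Module A M] [Module A N]
    [Module.Finite A M] [Module.Flat A M] [Module.Finite A N] [Module.Flat A N] (φ : M →ₗ[A] N)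
    (h : ∀ p : Ideal A, ∀ [p.IsPrime], p.height ≤ 1 → Function.Bijective (φ.baseChange p.ResidueField)) :
    Function.Bijective φ := by
  refine bijective_of_isLocalized_maximal (Mₚ := fun J _ => Localization.AtPrime J ⊗[A] M)
    (fun J _ => TensorProduct.mk A (Localization.AtPrime J) M 1)
    (Nₚ := fun J _ => Localization.AtPrime J ⊗[A] N)
    (fun J _ => TensorProduct.mk A (Localization.AtPrime J) N 1) φ fun J _ => ?_
  let R := Localization.AtPrime J
  have he : IsLocalizedModule.map J.primeCompl (TensorProduct.mk A R M 1) (TensorProduct.mk A R N 1) φ =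
      (φ.baseChange R).restrictScalars A := by
    refine IsLocalizedModule.ext J.primeCompl (TensorProduct.mk A R M 1)
      (IsLocalizedModule.map_units (TensorProduct.mk A R N 1)) ?_
    ext m
    rw [LinearMap.comp_apply, LinearMap.comp_apply, IsLocalizedModule.map_apply]
    simp
  rw [he]
  show Function.Bijective (φ.baseChange R)
  haveI : Module.Free R (R ⊗[A] M) := Module.free_of_flat_of_isLocalRing
  haveI : Module.Free R (R ⊗[A] N) := Module.free_of_flat_of_isLocalRing
  refine bijective_of_codim_one_local (φ.baseChange R) fun q hq hq1 => ?_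
  let p := q.comap (algebraMap A R)
  have hp1 : p.height ≤ 1 := by
    rw [show p.height = q.height from IsLocalization.height_under J.primeCompl q]
    exact hq1
  have hpJ : p ≤ J := by
    intro x hx
    by_contra hxJ
    exact hq.ne_top (Ideal.eq_top_of_isUnit_mem _ hx (IsLocalization.map_units R (⟨x, hxJ⟩ : J.primeCompl)))
  let K := p.ResidueField
  have hu : ∀ s : J.primeCompl, IsUnit (algebraMap A K s) := fun s => by
    rw [isUnit_iff_ne_zero, Ne, Ideal.algebraMap_residueField_eq_zero]
    exact fun hs => s.2 (hpJ hs)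
  letI : Algebra R K := (IsLocalization.lift hu).toAlgebra
  haveI : IsScalarTower A R K := IsScalarTower.of_algebraMap_eq fun x => (IsLocalization.lift_eq hu x).symm
  refine ⟨K, inferInstance, inferInstance, ?_, ?_⟩
  · ext z
    obtain ⟨a, s, rfl⟩ := IsLocalization.exists_mk'_eq J.primeCompl z
    show IsLocalization.lift hu (IsLocalization.mk' R a s) = 0 ↔ _
    rw [IsLocalization.lift_mk'_spec, mul_zero, Ideal.algebraMap_residueField_eq_zero,
      IsLocalization.mk'_mem_iff]
    rfl
  · have hcomp : ((φ.baseChange R).baseChange K) = ((TensorProduct.AlgebraTensorModule.cancelBaseChange A R K K N).symm.toLinearMap ∘ₗ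
        φ.baseChange K) ∘ₗ (TensorProduct.AlgebraTensorModule.cancelBaseChange A R K K M).toLinearMap := by
      ext m
      simp
    rw [hcomp, LinearMap.coe_comp, LinearMap.coe_comp]
    exact ((LinearEquiv.bijective _).comp (h p hp1)).comp (LinearEquiv.bijective _)

end Algebra

section Scheme

theorem isIso_pullback_map_iff {S T : Scheme.{u}} {Z₁ Z₂ : Over S} (Ψ : Z₁ ⟶ Z₂) (a : T ⟶ S) (h1 h2) :
    IsIso (pullback.map Z₁.hom a Z₂.hom a Ψ.left (𝟙 _) (𝟙 S) h1 h2) ↔ IsIso ((Over.pullback a).map Ψ) := by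
  have e : ((Over.pullback a).map Ψ).left = pullback.map Z₁.hom a Z₂.hom a Ψ.left (𝟙 _) (𝟙 S) h1 h2 := by
    apply pullback.hom_ext <;> simp [Over.pullback, pullback.map]
  rw [← e]
  exact ⟨fun h => haveI : IsIso ((Over.forget T).map ((Over.pullback a).map Ψ)) := h; isIso_of_reflects_iso _ (Over.forget T),
    fun h => haveI := h; (Over.forget T).map_isIso ((Over.pullback a).map Ψ)⟩

theorem isIso_pullback_comp_iff {S T T' : Scheme.{u}} {Z₁ Z₂ : Over S} (Ψ : Z₁ ⟶ Z₂) (b : T' ⟶ T) (a : T ⟶ S) :
    IsIso ((Over.pullback (b ≫ a)).map Ψ) ↔ IsIso ((Over.pullback b).map ((Over.pullback a).map Ψ)) :=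
  NatIso.isIso_map_iff (Over.pullbackComp b a) Ψ

/-- The case of affine schemes. -/
theorem isIso_Spec_iff_baseChange {A B₁ B₂ K : Type u} [CommRing A] [CommRing B₁] [CommRing B₂] [CommRing K]
    [Algebra A B₁] [Algebra A B₂] [Algebra A K] (φ : B₂ →ₐ[A] B₁) :
    IsIso ((Over.pullback (Spec.map (CommRingCat.ofHom (algebraMap A K)))).map
      (Over.homMk (U := Over.mk (Spec.map (CommRingCat.ofHom (algebraMap A B₁))))
        (V := Over.mk (Spec.map (CommRingCat.ofHom (algebraMap A B₂))))
        (Spec.map (CommRingCat.ofHom φ.toRingHom))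
        ((Spec.map_comp _ _).symm.trans (congrArg Spec.map (CommRingCat.hom_ext φ.comp_algebraMap)))))
      ↔ Function.Bijective (φ.toLinearMap.baseChange K) := by
  set m := (Over.pullback (Spec.map (CommRingCat.ofHom (algebraMap A K)))).map
      (Over.homMk (U := Over.mk (Spec.map (CommRingCat.ofHom (algebraMap A B₁))))
        (V := Over.mk (Spec.map (CommRingCat.ofHom (algebraMap A B₂))))
        (Spec.map (CommRingCat.ofHom φ.toRingHom))
        ((Spec.map_comp _ _).symm.trans (congrArg Spec.map (CommRingCat.hom_ext φ.comp_algebraMap)))) with hm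
  let g : B₂ ⊗[A] K →ₐ[A] B₁ ⊗[A] K := Algebra.TensorProduct.map φ (AlgHom.id A K)
  have e : (pullbackSpecIso A B₁ K).inv ≫ m.left = Spec.map (CommRingCat.ofHom g.toRingHom) ≫ (pullbackSpecIso A B₂ K).inv := by
    apply pullback.hom_ext
    · rw [hm]
      simp only [Category.assoc]
      simp only [Over.pullback_map_left, Over.homMk_left, Over.mk_hom, Over.mk_left, pullback.lift_fst,
        pullbackSpecIso_inv_fst_assoc, pullbackSpecIso_inv_fst, ← Spec.map_comp, ← CommRingCat.ofHom_comp]
      congr 2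
    · rw [hm]
      simp only [Category.assoc]
      simp only [Over.pullback_map_left, Over.homMk_left, Over.mk_hom, Over.mk_left, pullback.lift_snd,
        pullbackSpecIso_inv_snd, ← Spec.map_comp, ← CommRingCat.ofHom_comp]
      congr 2
      ext x
      simp [g]
  have hiff : IsIso m ↔ IsIso (Spec.map (CommRingCat.ofHom g.toRingHom)) := by
    constructor
    · intro h
      haveI : IsIso m.left := (Over.forget _).map_isIso m
      rw [← isIso_comp_right_iff _ (pullbackSpecIso A B₂ K).inv, ← e]
      infer_instance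
    · intro h
      haveI : IsIso ((pullbackSpecIso A B₁ K).inv ≫ m.left) := by rw [e]; infer_instance
      haveI : IsIso m.left := IsIso.of_isIso_comp_left (pullbackSpecIso A B₁ K).inv _
      haveI : IsIso ((Over.forget _).map m) := inferInstanceAs (IsIso m.left)
      exact isIso_of_reflects_iso m (Over.forget _)
  rw [hiff, isIso_SpecMap_iff]
  have hfun : ⇑(φ.toLinearMap.baseChange K) = (Algebra.TensorProduct.comm A B₁ K) ∘ g ∘ (Algebra.TensorProduct.comm A K B₂) := by
    funext x
    induction x using TensorProduct.induction_on with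
    | zero => simp
    | tmul a b => simp [g]
    | add a b ha hb => simp only [map_add, ha, hb, Function.comp_apply]
  rw [hfun]
  exact ((Function.Bijective.of_comp_iff' (AlgEquiv.bijective _) _).trans
    (Function.Bijective.of_comp_iff _ (AlgEquiv.bijective _))).symm

theorem isIso_of_isIso_fibres_codim_one {S : Scheme.{u}} [IsLocallyNoetherian S] {Z₁ Z₂ : Over S}
    [IsFinite Z₁.hom] [Flat Z₁.hom] [IsFinite Z₂.hom] [Flat Z₂.hom] (Ψ : Z₁ ⟶ Z₂)
    (h : ∀ s : S, ringKrullDim (S.presheaf.stalk s) ≤ 1 →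
      IsIso ((Over.pullback (S.fromSpecResidueField s)).map Ψ)) : IsIso Ψ.left := by
  have key : ∀ V : S.affineOpens, IsIso ((Over.pullback V.2.fromSpec).map Ψ) := by
    rintro ⟨V, hV⟩
    let A := Γ(S, V)
    let a : Spec A ⟶ S := hV.fromSpec
    haveI : IsNoetherianRing A := IsLocallyNoetherian.component_noetherian ⟨V, hV⟩
    let Y₁ := (Over.pullback a).obj Z₁
    let Y₂ := (Over.pullback a).obj Z₂
    let Ψ' : Y₁ ⟶ Y₂ := (Over.pullback a).map Ψ
    haveI hf1 : IsFinite Y₁.hom := inferInstanceAs (IsFinite (pullback.snd Z₁.hom a))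
    haveI hf2 : IsFinite Y₂.hom := inferInstanceAs (IsFinite (pullback.snd Z₂.hom a))
    haveI hl1 : Flat Y₁.hom := inferInstanceAs (Flat (pullback.snd Z₁.hom a))
    haveI hl2 : Flat Y₂.hom := inferInstanceAs (Flat (pullback.snd Z₂.hom a))
    haveI : IsAffine Y₁.left := isAffine_of_isAffineHom Y₁.hom
    haveI : IsAffine Y₂.left := isAffine_of_isAffineHom Y₂.hom
    let B₁ := Γ(Y₁.left, ⊤)
    let B₂ := Γ(Y₂.left, ⊤)
    letI : Algebra A B₁ := ((Scheme.ΓSpecIso A).inv ≫ Y₁.hom.appTop).hom.toAlgebra
    letI : Algebra A B₂ := ((Scheme.ΓSpecIso A).inv ≫ Y₂.hom.appTop).hom.toAlgebra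
    let φ : B₂ →ₐ[A] B₁ :=
      { Ψ'.left.appTop.hom with
        commutes' := fun x => by
          show Ψ'.left.appTop (Y₂.hom.appTop ((Scheme.ΓSpecIso A).inv x)) = Y₁.hom.appTop ((Scheme.ΓSpecIso A).inv x)
          rw [← ConcreteCategory.comp_apply, ← Scheme.Hom.comp_appTop, Over.w Ψ'] }
    have hw : ∀ (Y : Over (Spec A)) [IsAffine Y.left],
        Y.left.isoSpec.hom ≫ Spec.map ((Scheme.ΓSpecIso A).inv ≫ Y.hom.appTop) = Y.hom := fun Y _ => by
      rw [Spec.map_comp, Scheme.isoSpec_hom_naturality_assoc]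
      rw [show (Spec A).isoSpec.hom ≫ Spec.map (Scheme.ΓSpecIso A).inv = 𝟙 _ by
        rw [Scheme.isoSpec_hom, ← SpecMap_ΓSpecIso_hom, ← Spec.map_comp, Iso.inv_hom_id, Spec.map_id]]
      rw [Category.comp_id]
    let e₁ : Y₁ ≅ Over.mk (Spec.map (CommRingCat.ofHom (algebraMap A B₁))) :=
      Over.isoMk Y₁.left.isoSpec (hw Y₁)
    let e₂ : Y₂ ≅ Over.mk (Spec.map (CommRingCat.ofHom (algebraMap A B₂))) :=
      Over.isoMk Y₂.left.isoSpec (hw Y₂)
    let Φ : Over.mk (Spec.map (CommRingCat.ofHom (algebraMap A B₁))) ⟶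
        Over.mk (Spec.map (CommRingCat.ofHom (algebraMap A B₂))) :=
      Over.homMk (Spec.map (CommRingCat.ofHom φ.toRingHom))
        ((Spec.map_comp _ _).symm.trans (congrArg Spec.map (CommRingCat.hom_ext φ.comp_algebraMap)))
    have hΦ : Ψ' = e₁.hom ≫ Φ ≫ e₂.inv := by
      rw [← Category.assoc, Iso.eq_comp_inv]
      ext1
      exact (Scheme.isoSpec_hom_naturality Ψ'.left).symm
    haveI : Module.Finite A B₁ := by
      rw [← RingHom.finite_algebraMap]
      exact (IsFinite.SpecMap_iff (CommRingCat.ofHom (algebraMap A B₁))).mp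
        ((MorphismProperty.cancel_left_of_respectsIso @IsFinite Y₁.left.isoSpec.hom _).mp
          (by rw [show Y₁.left.isoSpec.hom ≫ Spec.map (CommRingCat.ofHom (algebraMap A B₁)) = Y₁.hom from hw Y₁]; exact hf1))
    haveI : Module.Finite A B₂ := by
      rw [← RingHom.finite_algebraMap]
      exact (IsFinite.SpecMap_iff (CommRingCat.ofHom (algebraMap A B₂))).mp
        ((MorphismProperty.cancel_left_of_respectsIso @IsFinite Y₂.left.isoSpec.hom _).mp
          (by rw [show Y₂.left.isoSpec.hom ≫ Spec.map (CommRingCat.ofHom (algebraMap A B₂)) = Y₂.hom from hw Y₂]; exact hf2))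
    haveI : Module.Flat A B₁ := by
      rw [← RingHom.flat_algebraMap_iff]
      exact (HasRingHomProperty.Spec_iff (P := @Flat) (φ := CommRingCat.ofHom (algebraMap A B₁))).mp
        ((MorphismProperty.cancel_left_of_respectsIso @Flat Y₁.left.isoSpec.hom _).mp
          (by rw [show Y₁.left.isoSpec.hom ≫ Spec.map (CommRingCat.ofHom (algebraMap A B₁)) = Y₁.hom from hw Y₁]; exact hl1))
    haveI : Module.Flat A B₂ := by
      rw [← RingHom.flat_algebraMap_iff]
      exact (HasRingHomProperty.Spec_iff (P := @Flat) (φ := CommRingCat.ofHom (algebraMap A B₂))).mp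
        ((MorphismProperty.cancel_left_of_respectsIso @Flat Y₂.left.isoSpec.hom _).mp
          (by rw [show Y₂.left.isoSpec.hom ≫ Spec.map (CommRingCat.ofHom (algebraMap A B₂)) = Y₂.hom from hw Y₂]; exact hl2))
    have hbij : Function.Bijective φ.toLinearMap := bijective_of_codim_one φ.toLinearMap fun p hp hp1 => by
      rw [← isIso_Spec_iff_baseChange φ]
      let s : S := a ⟨p, hp⟩
      have hsV : s ∈ V := hV.range_fromSpec.le ⟨_, rfl⟩
      letI : Algebra A (S.presheaf.stalk s) := (S.presheaf.germ V s hsV).hom.toAlgebra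
      haveI : IsLocalization.AtPrime (S.presheaf.stalk s) p := hV.isLocalization_stalk' ⟨p, hp⟩ hsV
      have hdim : ringKrullDim (S.presheaf.stalk s) ≤ 1 := by
        rw [IsLocalization.AtPrime.ringKrullDim_eq_height p (S.presheaf.stalk s)]
        exact WithBot.coe_le_coe.mpr hp1
      let q : Spec (CommRingCat.of p.ResidueField) ⟶ Spec A :=
        Spec.map (CommRingCat.ofHom (algebraMap A p.ResidueField))
      have hq : (q ≫ a) (IsLocalRing.closedPoint p.ResidueField) = s := by
        show a (q (IsLocalRing.closedPoint p.ResidueField)) = a ⟨p, hp⟩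
        congr 1
        refine PrimeSpectrum.ext ?_
        show Ideal.comap (algebraMap A p.ResidueField) (IsLocalRing.maximalIdeal p.ResidueField) = p
        rw [IsLocalRing.maximalIdeal_eq_bot, ← RingHom.ker_eq_comap_bot, Ideal.ker_algebraMap_residueField]
      obtain ⟨c, hc⟩ : ∃ c : Spec (CommRingCat.of p.ResidueField) ⟶ Spec (S.residueField s),
          c ≫ S.fromSpecResidueField s = q ≫ a := by
        rw [← hq]
        exact ⟨_, S.descResidueField_stalkClosedPointTo_fromSpecResidueField p.ResidueField (q ≫ a)⟩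
      have h1 : IsIso ((Over.pullback (c ≫ S.fromSpecResidueField s)).map Ψ) := by
        rw [isIso_pullback_comp_iff]
        haveI := h s hdim
        infer_instance
      rw [hc, isIso_pullback_comp_iff] at h1
      change IsIso ((Over.pullback q).map Ψ') at h1
      rw [hΦ, Functor.map_comp, Functor.map_comp] at h1
      haveI := h1
      show IsIso ((Over.pullback q).map Φ)
      rw [show (Over.pullback q).map Φ = inv ((Over.pullback q).map e₁.hom) ≫
        ((Over.pullback q).map e₁.hom ≫ (Over.pullback q).map Φ ≫ (Over.pullback q).map e₂.inv) ≫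
        inv ((Over.pullback q).map e₂.inv) by simp]
      infer_instance
    haveI : IsIso (CommRingCat.ofHom φ.toRingHom) := (ConcreteCategory.isIso_iff_bijective _).mpr hbij
    haveI : IsIso ((Over.forget _).map Φ) := inferInstanceAs (IsIso (Spec.map (CommRingCat.ofHom φ.toRingHom)))
    haveI : IsIso Φ := isIso_of_reflects_iso Φ (Over.forget _)
    show IsIso Ψ'
    rw [hΦ]
    infer_instance
  let 𝒰 := S.openCoverOfIsOpenCover (fun V : S.affineOpens => V.1) (iSup_affineOpens_eq_top S)
  refine (IsZariskiLocalAtTarget.iff_of_openCover (P := MorphismProperty.isomorphisms Scheme.{u})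
    (𝒰.pullback₁ Z₂.hom)).mpr fun V => ?_
  obtain ⟨V, hV⟩ := V
  have hι : IsIso ((Over.pullback V.ι).map Ψ) := by
    haveI := key ⟨V, hV⟩
    rw [show V.ι = hV.isoSpec.hom ≫ hV.fromSpec by rw [IsAffineOpen.fromSpec, Iso.hom_inv_id_assoc], isIso_pullback_comp_iff]
    infer_instance
  haveI : IsIso ((Over.pullback V.ι).map Ψ).left := (Over.forget _).map_isIso ((Over.pullback V.ι).map Ψ)
  have hsq : IsPullback (pullback.fst Z₁.hom V.ι) ((Over.pullback V.ι).map Ψ).left Ψ.left (pullback.fst Z₂.hom V.ι) := by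
    refine IsPullback.of_bot ?_ ?_ (IsPullback.of_hasPullback Z₂.hom V.ι)
    · rw [show ((Over.pullback V.ι).map Ψ).left ≫ pullback.snd Z₂.hom V.ι = pullback.snd Z₁.hom V.ι from
        Over.w ((Over.pullback V.ι).map Ψ), Over.w Ψ]
      exact IsPullback.of_hasPullback Z₁.hom V.ι
    · exact (pullback.lift_fst _ _ _).symm
  show IsIso (pullback.snd Ψ.left (pullback.fst Z₂.hom V.ι))
  rw [← hsq.isoPullback_inv_snd]
  infer_instance


end Scheme

end Groth.Agent.WildPurity
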