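import Groth.Agent.Pi1X.FEtGlobal
import Groth.Agent.SkDesc.Basic
import Mathlib.AlgebraicGeometry.Morphisms.QuasiFinite
import Mathlib.AlgebraicGeometry.Morphisms.Finite
import Mathlib.Topology.DiscreteSubset

/-!
Extension of morphisms of finite flat schemes across an open containing the points of depth less than two.
-/

set_option autoImplicit false
set_option backward.isDefEq.respectTransparency.types false

universe u

open CategoryTheory CategoryTheory.Limits AlgebraicGeometry TopologicalSpace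

namespace Groth.Agent.WildPurity

/-- Finite flat morphisms do not lower the depth. -/
theorem depth_le_stalk_of_finite_flat {W X : Scheme.{u}} [IsLocallyNoetherian W] [IsLocallyNoetherian X]
    (f : W ⟶ X) [IsFinite f] [Flat f] (w : W) :
    LocCoh.depth (X.presheaf.stalk (f.base w)) (X.presheaf.stalk (f.base w)) ≤
      LocCoh.depth (W.presheaf.stalk w) (W.presheaf.stalk w) := by
  letI : Algebra (X.presheaf.stalk (f.base w)) (W.presheaf.stalk w) := (f.stalkMap w).hom.toAlgebra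
  haveI : IsLocalHom (algebraMap (X.presheaf.stalk (f.base w)) (W.presheaf.stalk w)) :=
    inferInstanceAs <| IsLocalHom (f.stalkMap w).hom
  haveI : Module.Flat (X.presheaf.stalk (f.base w)) (W.presheaf.stalk w) := Flat.stalkMap f w
  refine (SkDesc.depth_eq (R := X.presheaf.stalk (f.base w)) (W.presheaf.stalk w) fun P hP hle => ?_).ge
  let x := W.fromSpecStalk w ⟨P, hP⟩
  have hxw : x ⤳ w := by
    have : x ∈ Set.range (W.fromSpecStalk w) := ⟨_, rfl⟩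
    rwa [Scheme.range_fromSpecStalk] at this
  have hcomap : P.comap (f.stalkMap w).hom = IsLocalRing.maximalIdeal _ :=
    le_antisymm (IsLocalRing.le_maximalIdeal (Ideal.IsPrime.ne_top inferInstance)) (Ideal.map_le_iff_le_comap.mp hle)
  have hfx : f x = f w := by
    show (W.fromSpecStalk w ≫ f) ⟨P, hP⟩ = _
    rw [← Scheme.SpecMap_stalkMap_fromSpecStalk]
    show X.fromSpecStalk (f w) (PrimeSpectrum.comap (f.stalkMap w).hom ⟨P, hP⟩) = _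
    rw [show PrimeSpectrum.comap (f.stalkMap w).hom ⟨P, hP⟩ = IsLocalRing.closedPoint _ from PrimeSpectrum.ext hcomap]
    exact Scheme.fromSpecStalk_closedPoint
  have hxeq : x = w := (f.isDiscrete_preimage_singleton (f w)).eq_of_specializes hxw
    (by simpa using hfx) (by simp)
  exact congrArg PrimeSpectrum.asIdeal ((W.fromSpecStalk w).isEmbedding.injective
    (hxeq.trans Scheme.fromSpecStalk_closedPoint.symm))

variable {S : Scheme.{u}} (U : S.Opens)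

/-- All points over the complement of `U` have depth at least two. -/
def DepthOff {P : Scheme.{u}} (g : P ⟶ S) : Prop :=
  ∀ w : P, g w ∉ U → (2 : ℕ∞) ≤ LocCoh.depth (P.presheaf.stalk w) (P.presheaf.stalk w)

theorem DepthOff.comp {P Q : Scheme.{u}} [IsLocallyNoetherian P] [IsLocallyNoetherian Q] {g : Q ⟶ S}
    (h : DepthOff U g) (p : P ⟶ Q) [IsOpenImmersion p] : DepthOff U (p ≫ g) :=
  fun w hw => (h (p w) hw).trans (Pi1X.depth_stalk_le p w)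

theorem restrict_bijective {P H : Scheme.{u}} [IsLocallyNoetherian P] {g : P ⟶ S} (hd : DepthOff U g)
    [IsAffine H] : Function.Bijective fun a : P ⟶ H => (g ⁻¹ᵁ U).ι ≫ a := by
  have hb : Function.Bijective (g ⁻¹ᵁ U).ι.appTop :=
    Pi1X.appTop_bijective_of_depth _ fun w hw => hd w (by rwa [Scheme.Opens.range_ι] at hw)
  haveI : IsIso (g ⁻¹ᵁ U).ι.appTop := (ConcreteCategory.isIso_iff_bijective _).mpr hb
  refine ⟨fun a b hab => ?_, fun c => ⟨P.toSpecΓ ≫ Spec.map (c.appTop ≫ inv (g ⁻¹ᵁ U).ι.appTop) ≫ H.isoSpec.inv, ?_⟩⟩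
  · refine ext_of_isAffine ?_
    have := congrArg Scheme.Hom.appTop hab
    rwa [Scheme.Hom.comp_appTop, Scheme.Hom.comp_appTop, cancel_mono] at this
  · rw [← cancel_mono H.isoSpec.hom]
    simp only [Category.assoc, Iso.inv_hom_id, Category.comp_id]
    rw [Scheme.isoSpec_hom]
    rw [Scheme.toSpecΓ_naturality_assoc, ← Spec.map_comp, Category.assoc, IsIso.inv_hom_id, Category.comp_id,
      ← Scheme.toSpecΓ_naturality]

variable {G : Scheme.{u}} (f : G ⟶ S) [IsAffineHom f]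

/-- Uniqueness of extensions into a scheme affine over the base. -/
theorem ext_of_depth {P : Scheme.{u}} [IsLocallyNoetherian P] {g : P ⟶ S} (hd : DepthOff U g) {a b : P ⟶ G}
    (ha : a ≫ f = g) (hb : b ≫ f = g) (h : (g ⁻¹ᵁ U).ι ≫ a = (g ⁻¹ᵁ U).ι ≫ b) : a = b := by
  refine Scheme.Cover.hom_ext (P.openCoverOfIsOpenCover (fun V : S.affineOpens => g ⁻¹ᵁ V.1) ?_) _ _ fun V => ?_
  · refine eq_top_iff.mpr fun x _ => ?_
    obtain ⟨V, hV, hxV, -⟩ := TopologicalSpace.Opens.isBasis_iff_nbhd.mp S.isBasis_affineOpens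
      (TopologicalSpace.Opens.mem_top (g x))
    exact TopologicalSpace.Opens.mem_iSup.mpr ⟨⟨V, hV⟩, hxV⟩
  obtain ⟨V, hV⟩ := V
  show (g ⁻¹ᵁ V).ι ≫ a = (g ⁻¹ᵁ V).ι ≫ b
  haveI : IsAffine (f ⁻¹ᵁ V).toScheme := IsAffineOpen.preimage hV f
  have hr : ∀ c : P ⟶ G, c ≫ f = g → Set.range ((g ⁻¹ᵁ V).ι ≫ c) ⊆ Set.range (f ⁻¹ᵁ V).ι := by
    rintro c hc _ ⟨x, rfl⟩
    rw [Scheme.Opens.range_ι]
    show f (c x.1) ∈ V
    rw [← Scheme.Hom.comp_apply, hc]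
    exact x.2
  rw [← IsOpenImmersion.lift_fac (f ⁻¹ᵁ V).ι _ (hr a ha), ← IsOpenImmersion.lift_fac (f ⁻¹ᵁ V).ι _ (hr b hb)]
  congr 1
  refine (restrict_bijective U (hd.comp U (g ⁻¹ᵁ V).ι)).1 ?_
  refine (cancel_mono (f ⁻¹ᵁ V).ι).mp ?_
  simp only [Category.assoc, IsOpenImmersion.lift_fac]
  have e : Set.range (((g ⁻¹ᵁ V).ι ≫ g) ⁻¹ᵁ U).ι ⊆ ((g ⁻¹ᵁ V).ι ⁻¹ᵁ (g ⁻¹ᵁ U)) := by
    rw [Scheme.Opens.range_ι]; exact subset_rfl
  have hr' : Set.range ((((g ⁻¹ᵁ V).ι ≫ g) ⁻¹ᵁ U).ι ≫ (g ⁻¹ᵁ V).ι) ⊆ Set.range (g ⁻¹ᵁ U).ι := by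
    rintro _ ⟨x, rfl⟩
    rw [Scheme.Opens.range_ι]
    exact e ⟨x, rfl⟩
  rw [← Category.assoc, ← IsOpenImmersion.lift_fac (g ⁻¹ᵁ U).ι _ hr', Category.assoc, h, ← Category.assoc,
    IsOpenImmersion.lift_fac, Category.assoc]

variable {G₁ : Scheme.{u}} [IsLocallyNoetherian G₁] (f₁ : G₁ ⟶ S)

/-- Extension of morphisms across the open. -/
theorem exists_extend (hd : DepthOff U f₁) (ψ : (f₁ ⁻¹ᵁ U).toScheme ⟶ G) (hψ : ψ ≫ f = (f₁ ⁻¹ᵁ U).ι ≫ f₁) :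
    ∃ φ : G₁ ⟶ G, φ ≫ f = f₁ ∧ (f₁ ⁻¹ᵁ U).ι ≫ φ = ψ := by
  let 𝒰 := G₁.openCoverOfIsOpenCover (fun V : S.affineOpens => f₁ ⁻¹ᵁ V.1) (eq_top_iff.mpr fun x _ => by
    obtain ⟨V, hV, hxV, -⟩ := TopologicalSpace.Opens.isBasis_iff_nbhd.mp S.isBasis_affineOpens
      (TopologicalSpace.Opens.mem_top (f₁ x))
    exact TopologicalSpace.Opens.mem_iSup.mpr ⟨⟨V, hV⟩, hxV⟩)
  have key : ∀ V : S.affineOpens, ∃ a : (f₁ ⁻¹ᵁ V.1).toScheme ⟶ G, a ≫ f = (f₁ ⁻¹ᵁ V.1).ι ≫ f₁ ∧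
      ∀ {Q : Scheme.{u}} (q : Q ⟶ (f₁ ⁻¹ᵁ V.1).toScheme) (q' : Q ⟶ (f₁ ⁻¹ᵁ U).toScheme),
        q ≫ (f₁ ⁻¹ᵁ V.1).ι = q' ≫ (f₁ ⁻¹ᵁ U).ι → q ≫ a = q' ≫ ψ := by
    rintro ⟨V, hV⟩
    haveI : IsAffine (f ⁻¹ᵁ V).toScheme := IsAffineOpen.preimage hV f
    haveI : IsAffine V.toScheme := hV
    let W := f₁ ⁻¹ᵁ V
    let O := (W.ι ≫ f₁) ⁻¹ᵁ U
    have hrO : Set.range (O.ι ≫ W.ι) ⊆ Set.range (f₁ ⁻¹ᵁ U).ι := by
      rintro _ ⟨x, rfl⟩
      rw [Scheme.Opens.range_ι]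
      exact x.2
    let ξ := IsOpenImmersion.lift (f₁ ⁻¹ᵁ U).ι (O.ι ≫ W.ι) hrO
    have hξ : ξ ≫ (f₁ ⁻¹ᵁ U).ι = O.ι ≫ W.ι := IsOpenImmersion.lift_fac _ _ _
    have hr : Set.range (ξ ≫ ψ) ⊆ Set.range (f ⁻¹ᵁ V).ι := by
      rintro _ ⟨x, rfl⟩
      rw [Scheme.Opens.range_ι]
      show f ((ξ ≫ ψ) x) ∈ V
      rw [← Scheme.Hom.comp_apply, Category.assoc, hψ, ← Category.assoc, hξ]
      exact x.1.2
    obtain ⟨a, ha⟩ := (restrict_bijective U (hd.comp U W.ι) (H := (f ⁻¹ᵁ V).toScheme)).2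
      (IsOpenImmersion.lift (f ⁻¹ᵁ V).ι (ξ ≫ ψ) hr)
    have haO : O.ι ≫ a ≫ (f ⁻¹ᵁ V).ι = ξ ≫ ψ := by
      rw [← Category.assoc, show O.ι ≫ a = _ from ha, IsOpenImmersion.lift_fac]
    have hover : a ≫ (f ∣_ V) = f₁ ∣_ V := by
      refine (restrict_bijective U (hd.comp U W.ι)).1 ((cancel_mono V.ι).mp ?_)
      simp only [Category.assoc, morphismRestrict_ι]
      show O.ι ≫ a ≫ (f ⁻¹ᵁ V).ι ≫ f = O.ι ≫ W.ι ≫ f₁
      rw [← reassoc_of% haO.symm, hψ, reassoc_of% hξ]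
    refine ⟨a ≫ (f ⁻¹ᵁ V).ι, ?_, fun {Q} q q' hq => ?_⟩
    · rw [Category.assoc, ← morphismRestrict_ι, ← Category.assoc, hover, morphismRestrict_ι]
    · have hrq : Set.range q ⊆ Set.range O.ι := by
        rintro _ ⟨x, rfl⟩
        rw [Scheme.Opens.range_ι]
        show f₁ (W.ι (q x)) ∈ U
        rw [← Scheme.Hom.comp_apply q, hq]
        exact (q' x).2
      have hlift := IsOpenImmersion.lift_fac O.ι q hrq
      rw [← hlift, Category.assoc, haO, ← Category.assoc]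
      congr 1
      rw [← cancel_mono (f₁ ⁻¹ᵁ U).ι, Category.assoc, hξ, ← Category.assoc, hlift, hq]
  choose a ha haU using key
  refine ⟨𝒰.glueMorphisms a fun V V' => ?_, ?_, ?_⟩
  · have hst : (pullback.fst (𝒰.f V) (𝒰.f V') ≫ 𝒰.f V) ≫ f₁ = (pullback.snd _ _ ≫ 𝒰.f V') ≫ f₁ := by
      rw [pullback.condition]
    haveI : IsLocallyNoetherian (pullback (𝒰.f V) (𝒰.f V')) :=
      isLocallyNoetherian_of_isOpenImmersion (pullback.fst (𝒰.f V) (𝒰.f V') ≫ 𝒰.f V)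
    refine ext_of_depth U f (hd.comp U (pullback.fst (𝒰.f V) (𝒰.f V') ≫ 𝒰.f V)) ?_ ?_ ?_
    · exact (Category.assoc _ _ _).trans ((congrArg (pullback.fst (𝒰.f V) (𝒰.f V') ≫ ·) (ha V)).trans (Category.assoc _ _ _).symm)
    · exact (Category.assoc _ _ _).trans ((congrArg (pullback.snd (𝒰.f V) (𝒰.f V') ≫ ·) (ha V')).trans
        ((Category.assoc _ _ _).symm.trans hst.symm))
    · let Q := ((pullback.fst (𝒰.f V) (𝒰.f V') ≫ 𝒰.f V) ≫ f₁) ⁻¹ᵁ U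
      have hr : Set.range (Q.ι ≫ pullback.fst (𝒰.f V) (𝒰.f V') ≫ 𝒰.f V) ⊆ Set.range (f₁ ⁻¹ᵁ U).ι := by
        rintro _ ⟨x, rfl⟩
        rw [Scheme.Opens.range_ι]
        exact x.2
      have hlift := IsOpenImmersion.lift_fac (f₁ ⁻¹ᵁ U).ι (Q.ι ≫ pullback.fst (𝒰.f V) (𝒰.f V') ≫ 𝒰.f V) hr
      have e1 := haU V (Q.ι ≫ pullback.fst _ _) _ ((Category.assoc _ _ _).trans hlift.symm)
      have e2 := haU V' (Q.ι ≫ pullback.snd (𝒰.f V) (𝒰.f V')) _ ((Category.assoc _ _ _).trans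
        ((congrArg (Q.ι ≫ ·) pullback.condition.symm).trans hlift.symm))
      exact ((Category.assoc _ _ _).symm.trans e1).trans (e2.symm.trans (Category.assoc _ _ _))
  · refine Scheme.Cover.hom_ext 𝒰 _ _ fun V => ?_
    rw [Scheme.Cover.ι_glueMorphisms_assoc]
    exact ha V
  · refine Scheme.Cover.hom_ext (𝒰.pullback₁ (f₁ ⁻¹ᵁ U).ι) _ _ fun V => ?_
    rw [← Category.assoc]
    show (pullback.fst (f₁ ⁻¹ᵁ U).ι (𝒰.f V) ≫ (f₁ ⁻¹ᵁ U).ι) ≫ _ = _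
    rw [pullback.condition, Category.assoc, Scheme.Cover.ι_glueMorphisms]
    exact haU V _ _ pullback.condition.symm

end Groth.Agent.WildPurity
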