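import Groth.Agent.WQ7.Free
import Groth.Agent.Pi1Ext.PuritySch
import Mathlib.RingTheory.Etale.Locus
import Mathlib.RingTheory.Smooth.Fiber

/-!
Étaleness of a ring over its invariants at primes with trivial inertia.
-/

set_option autoImplicit false

universe u w

open TensorProduct

namespace Groth.Agent.WildPurity

variable {R : Type u} [CommRing R] {A : Type u} [CommRing A] [Algebra R A]
  {G : Type w} [Group G] [Fintype G] [DecidableEq G] [MulSemiringAction G A]

/-- Galois coordinates kill derivations over the invariants. -/
theorem derivation_eq_zero (hinv : ∀ a : A, (∀ g : G, g • a = a) → a ∈ Set.range (algebraMap R A))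
    [SMulCommClass G R A] {r : R} {l : ℕ} {x y : Fin l → A}
    (hval : ∀ g : G, ∑ k, x k * (g • y k) = if g = 1 then algebraMap R A r else 0)
    {M : Type u} [AddCommGroup M] [Module A M] [Module R M] [IsScalarTower R A M]
    (hr : Function.Injective fun m : M => algebraMap R A r • m) (D : Derivation R A M) (a : A) :
    D a = 0 := by
  have hval' : ∀ g h : G, ∑ k, (h • x k) * (g • y k) = if g = h then algebraMap R A r else 0 := fun g h => by
    have := congrArg (h • ·) (hval (h⁻¹ * g))
    simp only [Finset.smul_sum, smul_mul', ← mul_smul, mul_inv_cancel_left] at this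
    rw [this]
    by_cases e : g = h
    · subst e; simp
    · rw [if_neg e, if_neg (fun e' => e (inv_mul_eq_one.mp e').symm), smul_zero]
  let E : G → M := fun g => ∑ k, (g • x k) • D (y k)
  have hD : ∀ a : A, algebraMap R A r • D a = ∑ g : G, (g • a) • E g := by
    intro a
    have hc : ∀ k, ∃ c, algebraMap R A c = ∑ g : G, g • (a * x k) := fun k => hinv _ fun h => by
      rw [Finset.smul_sum]
      exact Fintype.sum_equiv (Equiv.mulLeft h) _ _ fun g => (mul_smul h g _).symm
    choose c hc using hc
    have hra : r • a = ∑ k, c k • y k := by
      calc r • a = ∑ g : G, (g • a) * ∑ k, (g • x k) * y k := by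
            rw [Finset.sum_eq_single (1 : G)]
            · have := hval' 1 1
              simp only [one_smul, if_pos] at this ⊢
              rw [this, Algebra.smul_def, mul_comm]
            · intro g _ hg
              have := hval' 1 g
              simp only [one_smul, if_neg (Ne.symm hg)] at this
              rw [this, mul_zero]
            · intro h; exact absurd (Finset.mem_univ _) h
        _ = ∑ k, c k • y k := by
            simp only [Finset.mul_sum]
            rw [Finset.sum_comm]
            refine Finset.sum_congr rfl fun k _ => ?_
            rw [Algebra.smul_def, hc, Finset.sum_mul]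
            exact Finset.sum_congr rfl fun g _ => by rw [smul_mul', mul_assoc]
    rw [algebraMap_smul, ← D.map_smul, hra, map_sum]
    simp only [D.map_smul, E, Finset.smul_sum, smul_smul]
    rw [Finset.sum_comm]
    refine Finset.sum_congr rfl fun k _ => ?_
    rw [← algebraMap_smul A (c k), hc, Finset.sum_smul]
    exact Finset.sum_congr rfl fun g _ => by rw [smul_mul']
  have hab : ∀ a b : A, ∑ g : G, ((g • a) * (g • b) - a * (g • b) - b * (g • a)) • E g = 0 := by
    intro a b
    have h := hD (a * b)
    rw [D.leibniz, smul_add, smul_comm (algebraMap R A r) a, smul_comm (algebraMap R A r) b, hD, hD] at h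
    simp only [sub_smul, Finset.sum_sub_distrib, mul_smul, ← Finset.smul_sum]
    rw [sub_sub, h, sub_eq_zero]
    simp only [smul_mul', mul_smul]
  have hE : ∀ h : G, h ≠ 1 → E h = 0 := by
    intro h hh
    have hb : ∀ b : A, (algebraMap R A r * (h • b - b)) • E h = 0 := by
      intro b
      have hsum : ∑ k, (h • x k) • ∑ g : G, ((g • y k) * (g • b) - y k * (g • b) - b * (g • y k)) • E g = 0 := by
        simp [hab]
      simp only [Finset.smul_sum, smul_smul] at hsum
      rw [Finset.sum_comm] at hsum
      have hh1 : ∑ k, (h • x k) * y k = 0 := by simpa [Ne.symm hh] using hval' 1 h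
      have key : ∀ g : G, ∑ k, (h • x k) * ((g • y k) * (g • b) - y k * (g • b) - b * (g • y k)) =
          if g = h then algebraMap R A r * (g • b - b) else 0 := by
        intro g
        have e : ∑ k, (h • x k) * ((g • y k) * (g • b) - y k * (g • b) - b * (g • y k)) =
            (∑ k, (h • x k) * (g • y k)) * (g • b - b) - (∑ k, (h • x k) * y k) * (g • b) := by
          simp only [Finset.sum_mul, ← Finset.sum_sub_distrib]
          exact Finset.sum_congr rfl fun k _ => by ring
        rw [e, hh1, zero_mul, sub_zero, hval']
        split_ifs <;> simp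
      simp only [← Finset.sum_smul, key, ite_smul, zero_smul, Finset.sum_ite_eq', Finset.mem_univ,
        if_true] at hsum
      exact hsum
    have h2 : ∑ k, x k • ((algebraMap R A r * (h • y k - y k)) • E h) = 0 := by simp [hb]
    simp only [smul_smul, ← Finset.sum_smul] at h2
    have e : ∑ k, x k * (algebraMap R A r * (h • y k - y k)) = -(algebraMap R A r * algebraMap R A r) := by
      have h1 := hval 1
      have h3 := hval h
      simp only [one_smul, if_pos, if_neg hh] at h1 h3
      calc ∑ k, x k * (algebraMap R A r * (h • y k - y k))
          = algebraMap R A r * (∑ k, x k * (h • y k) - ∑ k, x k * y k) := by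
            rw [← Finset.sum_sub_distrib, Finset.mul_sum]
            exact Finset.sum_congr rfl fun k _ => by ring
        _ = _ := by rw [h1, h3]; ring
    rw [e, neg_smul, neg_eq_zero, mul_smul] at h2
    refine hr (hr ?_)
    simpa using h2
  have h1 : E 1 = 0 := by
    have := hD 1
    rw [D.map_one_eq_zero, smul_zero] at this
    simp only [smul_one, one_smul] at this
    rw [Finset.sum_eq_single (1 : G) (fun g _ hg => hE g hg)
      (fun h => absurd (Finset.mem_univ _) h)] at this
    exact this.symm
  refine hr ?_
  show algebraMap R A r • D a = algebraMap R A r • (0 : M)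
  rw [hD, smul_zero]
  refine Finset.sum_eq_zero fun g _ => ?_
  by_cases hg : g = 1
  · rw [hg, h1, smul_zero]
  · rw [hE g hg, smul_zero]

omit [Fintype G] [DecidableEq G] in
/-- A finite ring over its invariants is étale at the primes over a prime with trivial inertia above. -/
theorem isEtaleAt_of_inertia [Finite G] [IsNoetherianRing R] [Module.Finite R A] [FaithfulSMul R A]
    [SMulCommClass G R A]
    (hinv : ∀ a : A, (∀ g : G, g • a = a) → a ∈ Set.range (algebraMap R A))
    (q : Ideal R) [q.IsPrime]
    (h : ∀ Q : Ideal A, Q.IsPrime → Q.comap (algebraMap R A) = q → Q.inertia G = ⊥)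
    (P : Ideal A) [P.IsPrime] (hP : P.comap (algebraMap R A) = q) : Algebra.IsEtaleAt R P := by
  classical
  let := Fintype.ofFinite G
  haveI : Algebra.IsIntegral R A := Algebra.IsIntegral.of_finite R A
  obtain ⟨r, hrq, hmem⟩ := WQ7.exists_delta (G := G) q h
  obtain ⟨l, x, f, hsum⟩ := Submodule.mem_span_set'.mp hmem
  choose y hy using fun k => (f k).2
  have hval : ∀ g : G, ∑ k, x k * (g • (y k : A)) = if g = 1 then algebraMap R A r else 0 := fun g => by
    have := congrFun hsum g
    simp only [Finset.sum_apply, Pi.smul_apply, smul_eq_mul] at this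
    rw [Pi.single_apply] at this
    rw [← this]
    exact Finset.sum_congr rfl fun k _ => by rw [← hy k]
  haveI : Algebra.FinitePresentation R A := Algebra.FinitePresentation.of_finiteType.mp inferInstance
  let A' := Localization.Away (algebraMap R A r)
  let R' := Localization.Away r
  let A'' := R' ⊗[R] A
  -- unramified
  haveI : Algebra.FormallyUnramified R A' := by
    constructor
    have hu : IsUnit (algebraMap A A' (algebraMap R A r)) := IsLocalization.Away.algebraMap_isUnit _
    have hz : ∀ a : A, KaehlerDifferential.D R A' (algebraMap A A' a) = 0 := fun a =>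
      derivation_eq_zero (M := Ω[A'⁄R]) hinv (y := fun k => (y k : A)) hval
        (fun m m' e => by
          simp only [← algebraMap_smul A' (algebraMap R A r)] at e
          exact hu.smul_left_cancel.mp e)
        ((KaehlerDifferential.D R A').compAlgebraMap A) a
    have hz' : ∀ z : A', KaehlerDifferential.D R A' z = 0 := fun z => by
      obtain ⟨a, s, rfl⟩ := IsLocalization.exists_mk'_eq (Submonoid.powers (algebraMap R A r)) z
      have h1 := congrArg (KaehlerDifferential.D R A') (IsLocalization.mk'_spec A' a s)
      rw [Derivation.leibniz, hz, hz, smul_zero, zero_add] at h1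
      exact (IsLocalization.map_units A' s).smul_eq_zero.mp h1
    refine subsingleton_iff.mpr fun m m' => ?_
    have hall : ∀ m : Ω[A'⁄R], m = 0 := fun m => by
      have hm : m ∈ Submodule.span A' (Set.range (KaehlerDifferential.D R A')) := by
        rw [KaehlerDifferential.span_range_derivation]; trivial
      induction hm using Submodule.span_induction with
      | mem _ hx => obtain ⟨z, rfl⟩ := hx; exact hz' z
      | zero => rfl
      | add _ _ _ _ h1 h2 => rw [h1, h2, add_zero]
      | smul _ _ _ h1 => rw [h1, smul_zero]
    rw [hall m, hall m']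
  haveI : IsLocalization.Away (algebraMap R A r) (A ⊗[R] R') := by
    have := (inferInstance : IsLocalization (Algebra.algebraMapSubmonoid A (Submonoid.powers r)) (A ⊗[R] R'))
    rwa [Algebra.algebraMapSubmonoid_powers] at this
  let e : A' ≃ₐ[R] A'' :=
    ((IsLocalization.algEquiv (Submonoid.powers (algebraMap R A r)) A' (A ⊗[R] R')).restrictScalars R).trans
      (Algebra.TensorProduct.comm R A R')
  haveI : Algebra.FormallyUnramified R A'' := Algebra.FormallyUnramified.of_equiv e
  haveI : Algebra.FormallyUnramified R' A'' := Algebra.FormallyUnramified.of_restrictScalars R R' A''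
  -- flat
  haveI : Module.Flat R' A'' := by
    let T : A →ₗ[R] A :=
      { toFun := fun a => ∑ g : G, g • a
        map_add' := fun a b => by simp [smul_add, Finset.sum_add_distrib]
        map_smul' := fun c a => by
          simp only [RingHom.id_apply, Finset.smul_sum]
          exact Finset.sum_congr rfl fun g _ => smul_comm g c a }
    have hT : ∀ a, T a ∈ LinearMap.range (Algebra.linearMap R A) := fun a => hinv _ fun h => by
      show h • ∑ g : G, g • a = _
      rw [Finset.smul_sum]
      exact Fintype.sum_equiv (Equiv.mulLeft h) _ _ fun g => (mul_smul h g _).symm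
    let inv := LinearEquiv.ofInjective (Algebra.linearMap R A) (FaithfulSMul.algebraMap_injective R A)
    let u : A →ₗ[R] (Fin l → R) := LinearMap.pi fun k =>
      inv.symm.toLinearMap ∘ₗ LinearMap.codRestrict _ (T ∘ₗ LinearMap.mulRight R (x k)) (fun a => hT _)
    let v : (Fin l → R) →ₗ[R] A := Fintype.linearCombination R fun k => (y k : A)
    have huv : v ∘ₗ u = r • LinearMap.id := by
      refine LinearMap.ext fun a => ?_
      have hu : ∀ k, algebraMap R A (u a k) = ∑ g : G, g • (a * x k) := fun k =>
        congrArg Subtype.val (inv.apply_symm_apply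
          ((LinearMap.codRestrict _ (T ∘ₗ LinearMap.mulRight R (x k)) (fun a => hT _)) a))
      rw [LinearMap.smul_apply, LinearMap.id_apply]
      simp only [LinearMap.comp_apply, v, Fintype.linearCombination_apply, Algebra.smul_def, hu,
        Finset.sum_mul, smul_mul']
      rw [Finset.sum_comm]
      rw [Finset.sum_eq_single (1 : G)]
      · have h1 := hval 1
        simp only [one_smul, if_pos] at h1 ⊢
        rw [← h1, Finset.sum_mul]
        exact Finset.sum_congr rfl fun k _ => by ring
      · intro g _ hg
        have hg' := congrArg (g • ·) (hval g⁻¹)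
        simp only [if_neg (inv_ne_one.mpr hg), Finset.smul_sum, smul_mul', smul_zero, smul_inv_smul] at hg'
        calc ∑ k, g • a * g • x k * (y k : A) = g • a * ∑ k, g • x k * (y k : A) := by
              rw [Finset.mul_sum]; exact Finset.sum_congr rfl fun k _ => by ring
          _ = 0 := by rw [hg', mul_zero]
      · intro h'; exact absurd (Finset.mem_univ _) h'
    have hur : IsUnit (algebraMap R R' r) := IsLocalization.Away.algebraMap_isUnit r
    have hcomp : (((↑hur.unit⁻¹ : R') • v.baseChange R').comp (u.baseChange R')) = LinearMap.id := by
      rw [LinearMap.smul_comp, ← LinearMap.baseChange_comp, huv, LinearMap.baseChange_smul,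
        LinearMap.baseChange_id, ← algebraMap_smul R' r, smul_smul, IsUnit.val_inv_mul, one_smul]
    exact Module.Flat.of_retract _ _ hcomp
  haveI : Algebra.FinitePresentation R' A'' := inferInstance
  haveI : Algebra.Etale R' A'' := Algebra.Etale.of_formallyUnramified_of_flat
  have hetr : Algebra.Etale R A' := Pi1Ext.PuritySch.etAway_of_etale r
  refine (Algebra.basicOpen_subset_etaleLocus_iff_etale.mpr hetr) (a := (⟨P, inferInstance⟩ : PrimeSpectrum A)) ?_
  exact fun h' => hrq (hP ▸ (show r ∈ P.comap (algebraMap R A) from h'))

end Groth.Agent.WildPurity
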